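import Groth.Agent.H4DR.Ext.LocalDevissage
import Groth.Agent.H4DR.Ext.Point

/-!
# Vanishing near a maximal ideal from vanishing of `Hom` out of the residue field
-/

set_option autoImplicit false
set_option linter.style.haveILetI false

universe u

open CategoryTheory CategoryTheory.Limits Pretriangulated
open Groth.Agent.H4DR Groth.Agent.H4DR.Ext

attribute [local instance] HasDerivedCategory.standard

namespace Groth.Agent.H02CA.SkyZero

variable {A : Type u} [CommRing A] [IsNoetherianRing A] (m : Ideal A) [m.IsMaximal]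

/-- Every element is killed outside `m`. -/
def Tor (E : Type (u + 1)) [AddCommGroup E] [Module A E] : Prop := ∀ e : E, ∃ s ∉ m, s • e = 0

variable {K : Dual.D A} (hfin : ∀ i : ℤ, Module.Finite A (Dual.HD A K i)) {a : ℤ}
  (hlow : ∀ i : ℤ, i < a → Subsingleton (Dual.HD A K i))
  (hm : ∀ i : ℤ, Subsingleton (Ex (Dual.inD A (A ⧸ m)) K i))

include hfin hlow hm

theorem tor_quotient (J : Ideal A) : ∀ i : ℤ, Tor m (Ex (Dual.inD A (A ⧸ J)) K i) := by
  induction J using (inferInstance : WellFoundedGT (Ideal A)).induction with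
  | _ J ih =>
  intro i
  by_cases hJm : J ≤ m
  swap
  · obtain ⟨s, hsJ, hsm⟩ := SetLike.not_le_iff_exists.1 hJm
    intro e
    refine ⟨s, hsm, ?_⟩
    have h0 : s • (𝟙 (ModuleCat.of A (A ⧸ J))) = 0 := by
      refine ModuleCat.hom_ext (LinearMap.ext fun y => ?_)
      obtain ⟨y, rfl⟩ := Submodule.Quotient.mk_surjective J y
      exact (Submodule.Quotient.mk_eq_zero J).2 (J.mul_mem_right y hsJ)
    have h1 : s • (𝟙 (Dual.inD A (A ⧸ J))) = 0 := by
      rw [← inM_smul_id, h0, Functor.map_zero]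
    calc s • e = (s • 𝟙 (Dual.inD A (A ⧸ J))) ≫ e := by rw [Linear.smul_comp, Category.id_comp]
      _ = 0 := by rw [h1, zero_comp]
  by_cases hJe : J = m
  · subst hJe
    intro e
    exact ⟨1, fun h => (inferInstance : J.IsMaximal).ne_top ((Ideal.eq_top_iff_one J).2 h),
      @Subsingleton.elim _ (hm i) _ _⟩
  by_cases hp : J.IsPrime
  · obtain ⟨x, hx, hxJ⟩ := SetLike.exists_of_lt (lt_of_le_of_ne hJm hJe)
    obtain ⟨g, hf, hg, hfg⟩ := prime_ses J hxJ
    obtain ⟨δ, hT⟩ := exists_triangle _ g hf hg hfg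
    haveI : Module.Finite A (Ex (Dual.inD A (A ⧸ J)) K i) :=
      finite_ex_module_of_low hfin (fun N _ _ _ h => subsingleton_ex_low hlow N _ h)
        ((i - a).toNat + 1) (A ⧸ J) i (by omega)
    let E := Ex (Dual.inD A (A ⧸ J)) K i
    have hC := ih _ (left_lt_sup.2 fun h => hxJ (h (Ideal.mem_span_singleton_self x))) (i + 1)
    have hle : (⊤ : Submodule A E) ≤ m • ⊤ := by
      intro e _
      let c := conn (Triangle.mk (inM (L := ModuleCat.of A (A ⧸ J)) (M := ModuleCat.of A (A ⧸ J)) (x • LinearMap.id))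
        (inM (L := ModuleCat.of A (A ⧸ J)) (M := ModuleCat.of A (A ⧸ (J ⊔ Ideal.span {x}))) g) δ) K i (i + 1) rfl
      obtain ⟨s, hs, hse⟩ := hC (c e)
      obtain ⟨(y : E), hy⟩ := ker_conn_le _ hT rfl (show (s • e) ∈ LinearMap.ker c from (map_smul c s e).trans hse)
      have hy' : s • e = x • y := by
        rw [← hy]
        show inM (x • LinearMap.id) ≫ y = _
        rw [show inM (L := ModuleCat.of A (A ⧸ J)) (M := ModuleCat.of A (A ⧸ J)) (x • LinearMap.id) =
          x • 𝟙 _ from inM_smul_id (ModuleCat.of A (A ⧸ J)) x]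
        exact (Linear.smul_comp _ _ _ _ _ _).trans (congrArg (x • ·) (Category.id_comp y))
      obtain ⟨t, ht⟩ := (inferInstance : m.IsMaximal).exists_inv hs
      obtain ⟨u, hu, htu⟩ := ht
      have : e = t • x • y + u • e := by
        rw [← hy', smul_smul, ← add_smul, htu, one_smul]
      rw [this]
      exact add_mem (Submodule.smul_mem _ _ (Submodule.smul_mem_smul hx Submodule.mem_top))
        (Submodule.smul_mem_smul hu Submodule.mem_top)
    obtain ⟨r, hr, hr0⟩ := Submodule.exists_sub_one_mem_and_smul_eq_zero_of_fg_of_le_smul m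
      (⊤ : Submodule A E) Module.Finite.fg_top hle
    intro e
    refine ⟨r, fun hrm => (inferInstance : m.IsMaximal).ne_top ((Ideal.eq_top_iff_one m).2 ?_), hr0 e trivial⟩
    simpa using m.sub_mem hrm hr
  · have htop : J ≠ ⊤ := fun h => (inferInstance : m.IsMaximal).ne_top (top_le_iff.1 (h ▸ hJm))
    obtain ⟨c, hc, d, hd, hcd⟩ : ∃ c, c ∉ J ∧ ∃ d, d ∉ J ∧ c * d ∈ J := by
      simp only [Ideal.isPrime_iff, not_and, not_forall, not_or] at hp
      obtain ⟨c, d, h, hc, hd⟩ := hp htop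
      exact ⟨c, hc, d, hd, h⟩
    have h1 := ih (Submodule.colon J {c}) (SetLike.lt_iff_le_and_exists.2
      ⟨fun y hy => Submodule.mem_colon_singleton.2 (J.mul_mem_right c hy),
        d, Submodule.mem_colon_singleton.2 (by rw [smul_eq_mul, mul_comm]; exact hcd), hd⟩) i
    have h2 := ih _ (left_lt_sup.2 fun h => hc (h (Ideal.mem_span_singleton_self c))) i
    obtain ⟨f, g, hf, hg, hfg⟩ := colon_ses J c
    obtain ⟨δ, hT⟩ := exists_triangle f g hf hg hfg
    intro e
    obtain ⟨s₁, hs₁, h1e⟩ := h1 (pre (inM (L := ModuleCat.of A _) (M := ModuleCat.of A (A ⧸ J)) f) (K⟦i⟧) e)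
    obtain ⟨y, hy⟩ := (exact_pre₂ _ hT (K⟦i⟧) (s₁ • e)).1
      (show pre _ (K⟦i⟧) (s₁ • e) = 0 from (map_smul _ _ _).trans h1e)
    obtain ⟨s₂, hs₂, h2y⟩ := h2 y
    refine ⟨s₂ * s₁, (inferInstance : m.IsMaximal).isPrime.mul_notMem hs₂ hs₁, ?_⟩
    rw [mul_smul, ← hy]
    exact (map_smul _ _ _).symm.trans ((congrArg _ h2y).trans (map_zero _))

/-- The cohomology is killed outside `m`. -/
theorem torsion_homology (i : ℤ) (h : Dual.HD A K i) : ∃ s ∉ m, s • h = 0 := by
  obtain ⟨f, hf⟩ := (bijective_evalOne (K⟦i⟧)).2 ((PCoh.hShift K i 0 i (add_zero i)).symm h)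
  let e := ((DerivedCategory.singleFunctor (ModuleCat.{u} A) 0).mapIso
    (Submodule.quotEquivOfEqBot (⊥ : Ideal A) rfl).toModuleIso)
  obtain ⟨s, hs, hse⟩ := tor_quotient m hfin hlow hm ⊥ i (e.hom ≫ f)
  refine ⟨s, hs, ?_⟩
  have h0 : s • f = 0 := by
    refine (cancel_epi e.hom).1 ?_
    rw [comp_zero, Linear.comp_smul]
    exact hse
  refine (PCoh.hShift K i 0 i (add_zero i)).symm.injective ?_
  rw [map_smul, map_zero, ← hf, ← map_smul, h0, map_zero]

end Groth.Agent.H02CA.SkyZero
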