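import Groth.Agent.H02CA.SkyZero.Ring
import Groth.Agent.H02CA.Sky.HomPoint
import Groth.Agent.H02CA.KcohNilp
import Groth.Agent.H8Props.RelPCRing
import Groth.Agent.H8Props.FinLocFree.Global
import Groth.Agent.H16Derived.KFlat.PerfTilde
import Groth.Agent.H16Derived.KFlat.PerfNoeth
import Groth.Agent.H10Inj.Noetherian
import Groth.Agent.H10Coh.TildeExact
import Groth.Agent.H10Coh.OpenSpec

/-!
# No morphisms out of the skyscraper: vanishing near the point
-/

set_option autoImplicit false
set_option linter.style.haveILetI false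

universe u

open CategoryTheory CategoryTheory.Limits CategoryTheory.Pretriangulated AlgebraicGeometry

attribute [local instance] HasDerivedCategory.standard

namespace Groth.Agent.H02CA.SkyZero

open Groth.Agent.H02CA.Sky

variable {X U : Scheme.{u}} (j : U ⟶ X) [IsOpenImmersion j]

theorem isIso_restrict_counit (M : X.Modules) :
    IsIso ((Scheme.Modules.restrictFunctor j).map ((CxOX.extZeroAdj j).counit.app M)) := by
  haveI := H10Inj.isIso_extZero_unit' j
  exact IsIso.of_isIso_fac_left ((CxOX.extZeroAdj j).right_triangle_components M)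

theorem preservesFiniteLimits_extZero : PreservesFiniteLimits (CxOX.extZero j) := by
  haveI : (CxOX.extZero j).IsLeftAdjoint := (CxOX.extZeroAdj j).isLeftAdjoint
  haveI : (CxOX.extZero j).Additive := (CxOX.extZeroAdj j).left_adjoint_additive
  haveI : (CxOX.extZero j).PreservesMonomorphisms := by
    refine ⟨fun {M N} g _ => Preadditive.mono_of_isZero_kernel _ ?_⟩
    let K := kernel ((CxOX.extZero j).map g)
    let R := Scheme.Modules.restrictFunctor j
    haveI := H10Inj.isIso_extZero_unit' j
    have hm : Mono (R.map ((CxOX.extZero j).map g)) := by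
      have hn := (CxOX.extZeroAdj j).unit.naturality g
      have : R.map ((CxOX.extZero j).map g) = inv ((CxOX.extZeroAdj j).unit.app M) ≫ g ≫ (CxOX.extZeroAdj j).unit.app N := by
        rw [IsIso.eq_inv_comp]; exact hn.symm
      rw [this]; infer_instance
    have hK : IsZero (R.obj K) := (isZero_kernel_of_mono (R.map ((CxOX.extZero j).map g))).of_iso
      (PreservesKernel.iso R ((CxOX.extZero j).map g))
    refine H16Derived.KFlat.Stalk.isZero_of_stalk fun y =>
      @ModuleCat.isZero_of_subsingleton _ _ ((DerSch.stalkFunctor X y).obj K) (not_not.1 fun hy => ?_)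
    by_cases h : y ∈ Set.range j
    · exact LeadDev.notMem_support_of_isZero_restrict j hK h hy
    · exact LeadDev.support_subset_of_mono (kernel.ι ((CxOX.extZero j).map g)) hy
        (ModuleCat.subsingleton_of_isZero (H10Inj.isZero_stalk_extZero j M y h))
  haveI : (CxOX.extZero j).PreservesHomology := (CxOX.extZero j).preservesHomology_of_preservesMonos_and_cokernels
  exact (CxOX.extZero j).preservesFiniteLimits_of_preservesHomology

theorem isIso_counit_of_support {M : X.Modules} (h : ∀ y ∈ CohB1.support M, y ∈ Set.range j) :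
    IsIso ((CxOX.extZeroAdj j).counit.app M) := by
  refine H16Derived.KFlat.Stalk.isIso_of_stalk _ fun y => ?_
  by_cases hy : y ∈ Set.range j
  · obtain ⟨y, rfl⟩ := hy
    haveI := isIso_restrict_counit j M
    exact H10Inj.isIso_stalk_of_restrict' j _ y
  · exact isIso_of_source_target_iso_zero _ (H10Inj.isZero_stalk_extZero j _ y hy).isoZero
      (@ModuleCat.isZero_of_subsingleton _ _ ((DerSch.stalkFunctor X y).obj M)
        (not_not.1 fun hs => hy (h y hs))).isoZero

/-- Morphisms out of a module supported in the open, computed on the open. -/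
theorem hom_restrict_eq_zero {M : X.Modules} (h : ∀ y ∈ CohB1.support M, y ∈ Set.range j) (L : DCoh.D X)
    (hz : ∀ φ : DCoh.inD X M ⟶ L, φ = 0) (ψ : DCoh.inD U (M.restrict j) ⟶ (DCoh.restrictD j).obj L) : ψ = 0 := by
  haveI := preservesFiniteLimits_extZero j
  haveI := isIso_counit_of_support j h
  let adj : CxOX.extZeroD j ⊣ DCoh.restrictD j :=
    H16Derived.ExactAdj.mapDerivedCategoryAdj (CxOX.extZeroAdj j)
  let e : (CxOX.extZeroD j).obj (DCoh.inD U (M.restrict j)) ≅ DCoh.inD X M :=
    ((CxOX.extZero j).mapDerivedCategorySingleFunctor 0).app (M.restrict j) ≪≫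
      (DerivedCategory.singleFunctor X.Modules 0).mapIso (asIso ((CxOX.extZeroAdj j).counit.app M))
  apply (adj.homEquiv _ _).symm.injective
  have h0 := hz (e.inv ≫ (adj.homEquiv _ _).symm ψ)
  have h1 : (adj.homEquiv _ _).symm ψ = 0 := (cancel_epi e.inv).1 (h0.trans comp_zero.symm)
  rw [h1]
  refine ((adj.homEquiv _ _).symm_apply_eq.2 ?_).symm
  rw [Adjunction.homEquiv_unit, Functor.map_zero, comp_zero]

theorem notMem_support_tilde {Rc : CommRingCat.{u}} (N : ModuleCat.{u} Rc) (p : PrimeSpectrum Rc)
    (h : ∀ e : N, ∃ s ∉ p.asIdeal, s • e = 0) : (p : Spec Rc) ∉ CohB1.support (tilde N) := by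
  refine not_not.2 (subsingleton_of_forall_eq 0 fun t => ?_)
  obtain ⟨⟨e, s⟩, hs⟩ := IsLocalizedModule.surj p.asIdeal.primeCompl (tilde.toStalk N p).hom t
  obtain ⟨s', hs', he⟩ := h e
  let t' : ((tilde N).presheaf.stalk p) := t
  have h1 : ((⟨s', hs'⟩ * s : p.asIdeal.primeCompl) : p.asIdeal.primeCompl) • t' = 0 := by
    rw [mul_smul]
    refine (congrArg (fun z => (⟨s', hs'⟩ : p.asIdeal.primeCompl) • z) hs).trans ?_
    exact ((tilde.toStalk N p).hom.map_smul s' e).symm.trans ((congrArg _ he).trans (map_zero _))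
  exact IsLocalizedModule.smul_injective (tilde.toStalk N p).hom _ (h1.trans (smul_zero _).symm)

section affine

variable {R : Type u} [CommRing R] [PreservesFiniteLimits (tilde.functor (CommRingCat.of R))]

theorem finite_homology (M : Dual.D R) (i : ℤ)
    (h : Coh.IsCoh (DCoh.HD ((DCoh.tildeD (CommRingCat.of R)).obj M) i)) :
    Module.Finite R (Dual.HD R M i) := by
  let N := H16Derived.KFlat.Stalk.hA M i
  have hc := H10Coh.isCoh_of_iso (H16Derived.KFlat.Stalk.hdTilde M i) h
  exact (H8Props.FinLocFree.finite_top_iff (R := CommRingCat.of R) N).1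
    (((H10Coh.isCoh_iff_finite_sections _).1 hc).2 ⊤ (isAffineOpen_top _))

theorem notMem_support_of_torsion (p : PrimeSpectrum R) (M : Dual.D R) (i : ℤ)
    (h : ∀ e : Dual.HD R M i, ∃ s ∉ p.asIdeal, s • e = 0) :
    (p : Spec (CommRingCat.of R)) ∉ CohB1.support (DCoh.HD ((DCoh.tildeD (CommRingCat.of R)).obj M) i) :=
  support_congr (H16Derived.KFlat.Stalk.hdTilde M i).symm
    (notMem_support_tilde (H16Derived.KFlat.Stalk.hA M i : ModuleCat.{u} (CommRingCat.of R)) p h)

end affine

open H16Derived in
/-- If there are no morphisms from the skyscraper at a closed point to the shifts of a bounded coherent `K`,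
then `K` vanishes at the point. -/
theorem notMem_support_of_hom_sky [IsLocallyNoetherian X] (x : X) (hx : IsClosed ({x} : Set X)) (K : DCoh.D X)
    (hK : DCoh.IsCohD K) (a : ℤ) [DerivedCategory.IsGE K a]
    (h : ∀ (i : ℤ) (φ : DCoh.inD X (skyM x) ⟶ (shiftFunctor (DCoh.D X) i).obj K), φ = 0) (i : ℤ) :
    x ∉ CohB1.support (DCoh.HD K i) := by
  obtain ⟨V, hV, hxV, -⟩ := exists_isAffineOpen_mem_and_subset (x := x) (U := (⊤ : X.Opens)) trivial
  haveI : IsNoetherianRing Γ(X, V) := IsLocallyNoetherian.component_noetherian ⟨V, hV⟩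
  let R : Type u := Γ(X, V)
  haveI : PreservesFiniteLimits (tilde.functor (CommRingCat.of R)) :=
    inferInstance
  let j : Spec (CommRingCat.of R) ⟶ X := hV.fromSpec
  haveI : IsOpenImmersion j := inferInstanceAs (IsOpenImmersion hV.fromSpec)
  -- the point
  let α : CommRingCat.of R ⟶ X.residueField x := X.presheaf.germ V x hxV ≫ X.residue x
  let f : Spec (X.residueField x) ⟶ Spec (CommRingCat.of R) := Spec.map α
  have hf : f ≫ j = X.fromSpecResidueField x := by
    show Spec.map (X.presheaf.germ V x hxV ≫ X.residue x) ≫ hV.fromSpec = _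
    rw [Spec.map_comp, Category.assoc, Scheme.fromSpecResidueField]
    exact congrArg (Spec.map (X.residue x) ≫ ·) (hV.fromSpecStalk_eq_fromSpecStalk hxV)
  let q : Spec (X.residueField x) := (inferInstance : Nonempty (Spec (X.residueField x))).some
  let p : PrimeSpectrum R := f q
  have hjp : j p = x := by
    show (f ≫ j) q = x
    rw [hf, Scheme.fromSpecResidueField_apply]
  have hpm : p.asIdeal.IsMaximal := by
    refine (PrimeSpectrum.isClosed_singleton_iff_isMaximal p).1 ?_
    have he : ({p} : Set (Spec (CommRingCat.of R))) = j ⁻¹' {x} := by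
      ext y
      exact ⟨fun hy => hy ▸ hjp, fun hy => j.isOpenEmbedding.injective (Eq.trans hy hjp.symm)⟩
    have hc : IsClosed ({p} : Set (Spec (CommRingCat.of R))) := he ▸ hx.preimage j.continuous
    exact hc
  haveI := hpm
  let g : R →+* X.residueField x := α.hom
  have hker : RingHom.ker g = p.asIdeal := by
    refine ((Ideal.IsMaximal.eq_of_le hpm (RingHom.ker_ne_top g) ?_)).symm
    intro r hr
    have h2 : q.asIdeal = ⊥ := by
      rcases Ideal.eq_bot_or_top q.asIdeal with h | h
      · exact h
      · exact absurd h q.isPrime.ne_top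
    have h1 : g r ∈ q.asIdeal := hr
    rwa [h2, Ideal.mem_bot] at h1
  have hsurj : Function.Surjective g := by
    intro z
    obtain ⟨t, rfl⟩ := X.residue_surjective x z
    haveI := hV.isLocalization_stalk ⟨x, hxV⟩
    letI : Algebra R (X.presheaf.stalk x) := (X.presheaf.germ V x hxV).hom.toAlgebra
    obtain ⟨⟨a, s⟩, has⟩ := IsLocalization.surj (hV.primeIdealOf ⟨x, hxV⟩).asIdeal.primeCompl t
    have hgs : g s.1 ≠ 0 := by
      have hu := (IsLocalization.map_units (X.presheaf.stalk x) s).map (X.residue x).hom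
      exact hu.ne_zero
    obtain ⟨u, v, hv, huv⟩ := hpm.exists_inv (x := s.1) (fun hs => hgs (by
      rwa [← hker, RingHom.mem_ker] at hs))
    refine ⟨a * u, ?_⟩
    have hv0 : g v = 0 := by rwa [← hker, RingHom.mem_ker] at hv
    have hu : g u * g s.1 = 1 := by
      have := congrArg g huv
      rw [map_add, map_mul, map_one, hv0, add_zero] at this
      exact this
    have ha : (X.residue x).hom t * g s.1 = g a := by
      have := congrArg (X.residue x).hom has
      rw [map_mul] at this
      exact this
    rw [map_mul, ← ha, mul_assoc, mul_comm (g s.1), hu, mul_one]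
  -- the restriction of the skyscraper
  let kN : ModuleCat.{u} (X.residueField x) := ModuleCat.of (X.residueField x) (X.residueField x)
  let N : ModuleCat.{u} R := (ModuleCat.restrictScalars g).obj kN
  let eN : N ≅ ModuleCat.of R (R ⧸ p.asIdeal) := by
    letI : Module R (X.residueField x) := Module.compHom _ g
    let l : R →ₗ[R] N :=
      { toFun := fun r => g r, map_add' := g.map_add, map_smul' := fun r y => g.map_mul r y }
    refine LinearEquiv.toModuleIso (X₁ := N) (X₂ := R ⧸ p.asIdeal) ?_
    exact ((Submodule.quotEquivOfEq _ _ (show p.asIdeal = LinearMap.ker l by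
      ext r; rw [← hker]; rfl)).trans (LinearMap.quotKerEquivOfSurjective l hsurj)).symm
  haveI := H10Inj.isIso_extZero_unit' j
  let eS : (skyM x).restrict j ≅ tilde (R := CommRingCat.of R) N :=
    (Scheme.Modules.restrictFunctor j).mapIso
      ((Scheme.Modules.pushforwardCongr hf.symm).app _ ≪≫ (Scheme.Modules.pushforwardComp f j).symm.app _ ) ≪≫
      (asIso (Scheme.Modules.restrictAdjunction j).counit).app _ ≪≫
      (Scheme.Modules.pushforward f).mapIso
        (show Coh.structureModule (Spec (X.residueField x)) ≅ tilde kN from (tildeSelf).symm) ≪≫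
      (H8Props.RelPC.tildePushIso α).app kN
  have hsupp : ∀ y ∈ CohB1.support (skyM x), y ∈ Set.range j := fun y hy => by
    by_cases hyx : y = x
    · exact ⟨p, hjp.trans hyx.symm⟩
    · exact absurd hy (support_skyM hx hyx)
  have hcoh : DCoh.IsCohD ((DCoh.restrictD j).obj K) := fun i =>
    H10Coh.isCoh_of_iso (H16Derived.KFlat.Stalk.homologyRdIso j K i).symm (H10Coh.isCoh_restrict j _ (hK i))
  obtain ⟨M, ⟨eM⟩⟩ := H16Derived.QCohD.exists_tildeD_iso (R := CommRingCat.of R) fun i => (hcoh i).1
  have hGE : DerivedCategory.IsGE ((DCoh.restrictD j).obj K) a := by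
    refine (DerivedCategory.isGE_iff _ _).2 fun l hl => ?_
    exact ((Scheme.Modules.restrictFunctor j).map_isZero (K.isZero_of_isGE a l hl)).of_iso
      (H16Derived.KFlat.Stalk.homologyRdIso j K l)
  haveI : M.IsGE a := (H16Derived.KFlat.Stalk.isGE_tilde_iff M a).1
    ((DerivedCategory.isGE_iff _ _).2 fun l hl =>
      ((DerivedCategory.isGE_iff _ _).1 hGE l hl).of_iso ((DerivedCategory.homologyFunctor _ l).mapIso eM))
  have hfin : ∀ l, Module.Finite R (Dual.HD R M l) := fun l =>
    finite_homology M l (H10Coh.isCoh_of_iso ((DerivedCategory.homologyFunctor _ l).mapIso eM).symm (hcoh l))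
  let T := DCoh.tildeD (CommRingCat.of R)
  haveI : T.Faithful := (H16Derived.QCohD.full_faithful (CommRingCat.of R)).2
  have hm : ∀ l : ℤ, Subsingleton (H4DR.Ext.Ex (Dual.inD R (R ⧸ p.asIdeal)) M l) := fun l =>
    subsingleton_of_forall_eq 0 fun φ => by
      apply T.map_injective
      let e₁ : T.obj (Dual.inD R (R ⧸ p.asIdeal)) ≅ DCoh.inD _ ((skyM x).restrict j) :=
        ((tilde.functor (CommRingCat.of R)).mapDerivedCategorySingleFunctor 0).app _ ≪≫
          (DerivedCategory.singleFunctor _ 0).mapIso ((tilde.functor (CommRingCat.of R)).mapIso eN.symm ≪≫ eS.symm)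
      let e₂ : T.obj (M⟦l⟧) ≅ (DCoh.restrictD j).obj (K⟦l⟧) :=
        (T.commShiftIso l).app M ≪≫ (shiftFunctor _ l).mapIso eM ≪≫ ((DCoh.restrictD j).commShiftIso l).symm.app K
      rw [Functor.map_zero, ← cancel_epi e₁.inv, ← cancel_mono e₂.hom, comp_zero, zero_comp]
      exact hom_restrict_eq_zero j hsupp _ (h l) _
  have hz := notMem_support_of_torsion p M i (torsion_homology p.asIdeal hfin
    (fun l hl => ModuleCat.subsingleton_of_isZero (DerivedCategory.isZero_of_isGE M a l hl)) hm i)
  have hz' := support_congr ((DerivedCategory.homologyFunctor _ i).mapIso eM ≪≫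
    H16Derived.KFlat.Stalk.homologyRdIso j K i) hz
  intro hs
  refine hs ?_
  rw [← hjp]
  haveI : Subsingleton (((DCoh.HD K i).restrict j).presheaf.stalk p) := not_not.1 hz'
  exact AddCommGrpCat.subsingleton_of_isZero (IsZero.of_iso
    (@AddCommGrpCat.isZero_of_subsingleton _ (inferInstanceAs (Subsingleton (((DCoh.HD K i).restrict j).presheaf.stalk p))))
    ((Scheme.Modules.restrictStalkNatIso j p).app _).symm)

end Groth.Agent.H02CA.SkyZero
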